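import Cfsg.Agent.H954.LD.Row
import Cfsg.Agent.H713.Engine
import Cfsg.Agent.S0145
import Cfsg.Agent.Blocks.CyclicUpper
import Cfsg.Agent.Characters.GaloisBasic
import Cfsg.Agent.Characters.Linear

/-!
# A character of degree prime to `p` and to `r` (helper913, for S4910)

`exists_prime_to` : if `p` divides `|G|` exactly once and `r` is any prime, there is `χ ≠ 1` irreducible with
`p ∤ χ(1)` and `r ∤ χ(1)` (column orthogonality of `1` and an element of order `p`).
`charDegree_ne_one` : a character `≠ 1` of a nonabelian simple group has degree `≠ 1`.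
-/

set_option autoImplicit false

namespace Cfsg.Agent.H913.LD

open Cfsg Cfsg.Agent.Characters.Core
open scoped ComplexConjugate

variable {G : Type*} [Group G]

theorem not_isIntegral_inv {r : ℕ} (hr : 1 < r) {a : ℂ} (ha : IsIntegral ℤ a) (h : 1 + (r : ℂ) * a = 0) : False := by
  have h1 : a = algebraMap ℚ ℂ (-(1 / (r : ℚ))) := by
    have hr0 : (r : ℂ) ≠ 0 := by exact_mod_cast (by omega : r ≠ 0)
    have h2 : (r : ℂ) * a = -1 := by linear_combination h
    have h3 : a = -1 / r := by rw [eq_div_iff hr0, mul_comm]; exact h2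
    rw [h3]
    simp [neg_div]
  rw [h1] at ha
  have h2 : IsIntegral ℤ (-(1 / (r : ℚ))) := (isIntegral_algebraMap_iff (algebraMap ℚ ℂ).injective).1 ha
  obtain ⟨n, hn⟩ := IsIntegrallyClosed.isIntegral_iff.1 h2
  have hr0 : (r : ℚ) ≠ 0 := by exact_mod_cast (by omega : r ≠ 0)
  have h3 : (n : ℚ) * r = -1 := by
    have : ((algebraMap ℤ ℚ) n : ℚ) = n := rfl
    rw [this] at hn
    rw [hn]
    field_simp
  have h4 : n * (r : ℤ) = -1 := by exact_mod_cast h3
  have h5 : (r : ℤ) ∣ 1 := ⟨-n, by linear_combination h4⟩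
  have h6 := Int.le_of_dvd one_pos h5
  omega

/-- **A character of degree prime to `p` and `r`.** -/
theorem exists_prime_to [Finite G] {p r : ℕ} (hp : p.Prime) (hr : r.Prime)
    (hfp : (Nat.card G).factorization p = 1) :
    ∃ χ : IrrCharacter G, (χ : G → ℂ) ≠ 1 ∧ ¬ p ∣ charDegree (χ : G → ℂ) ∧ ¬ r ∣ charDegree (χ : G → ℂ) := by
  classical
  have := Fintype.ofFinite G
  have hfin := Cfsg.Agent.Characters.Core.finite_irr (G := G)
  have := Fintype.ofFinite (IrrCharacter G)
  have hFp : Fact p.Prime := ⟨hp⟩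
  have hdvd : p ∣ Nat.card G := by
    by_contra h
    rw [Nat.factorization_eq_zero_of_not_dvd h] at hfp
    omega
  obtain ⟨g, hg⟩ := exists_prime_orderOf_dvd_card' p hdvd
  have hg1 : ¬ IsConj (1 : G) g := by
    intro h
    have h := isConj_one_right.1 h
    subst h
    rw [orderOf_one] at hg
    exact hp.one_lt.ne hg
  have hcol := Cfsg.Agent.S0145.sum_irr_mul_conj (1 : G) g
  rw [if_neg hg1] at hcol
  by_contra hno
  push Not at hno
  set one : IrrCharacter G := ⟨1, isIrr_one⟩ with hone
  have hval : ∀ χ : IrrCharacter G, (χ : G → ℂ) 1 = (charDegree (χ : G → ℂ) : ℂ) := fun χ =>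
    Cfsg.Agent.Blocks.Basic.irr_one_eq_charDegree χ.2
  have key : ∀ χ : IrrCharacter G, ∃ a : ℂ, IsIntegral ℤ a ∧ (χ ≠ one →
      (χ : G → ℂ) 1 * conj ((χ : G → ℂ) g) = (r : ℂ) * a) := by
    intro χ
    by_cases hχ : χ = one
    · exact ⟨0, isIntegral_zero, fun h => absurd hχ h⟩
    · have hχ1 : (χ : G → ℂ) ≠ 1 := fun h => hχ (Subtype.ext h)
      have hint : IsIntegral ℤ (conj ((χ : G → ℂ) g)) := by
        have h1 := Cfsg.Agent.Characters.GaloisBasic.isIntegral_apply (isIrr_isCharacter χ.2) g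
        exact h1.map (starRingEnd ℂ).toIntAlgHom
      by_cases hpd : p ∣ charDegree (χ : G → ℂ)
      · refine ⟨0, isIntegral_zero, fun _ => ?_⟩
        have h1 : (charDegree (χ : G → ℂ)).factorization p = (Nat.card G).factorization p := by
          rw [hfp]
          have hd : charDegree (χ : G → ℂ) ∣ Nat.card G := Cfsg.Agent.Blocks.CyclicUpper.charDegree_dvd χ.2
          have h2 : (charDegree (χ : G → ℂ)).factorization p ≤ 1 := by
            rw [← hfp]
            exact (Nat.factorization_le_iff_dvd (by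
              intro h0; rw [h0] at hd; exact Nat.card_pos.ne' (Nat.eq_zero_of_zero_dvd hd)) Nat.card_pos.ne').2 hd p
          have h3 : 1 ≤ (charDegree (χ : G → ℂ)).factorization p := by
            refine (hp.dvd_iff_one_le_factorization ?_).1 hpd
            intro h0; rw [h0] at hd; exact Nat.card_pos.ne' (Nat.eq_zero_of_zero_dvd hd)
          omega
        rw [Cfsg.Agent.H713.irr_zero_of_singular h1 (x := g) (by rw [hg]), map_zero, mul_zero, mul_zero]
      · have hrd := hno χ hχ1 hpd
        obtain ⟨c, hc⟩ := hrd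
        refine ⟨(c : ℂ) * conj ((χ : G → ℂ) g), (isIntegral_natCast c).mul hint, fun _ => ?_⟩
        rw [hval, hc]
        push_cast
        ring
  choose a ha ha' using key
  rw [← Finset.add_sum_erase _ _ (Finset.mem_univ one)] at hcol
  have h1 : ∑ χ ∈ Finset.univ.erase one, (χ : G → ℂ) 1 * conj ((χ : G → ℂ) g) =
      (r : ℂ) * ∑ χ ∈ Finset.univ.erase one, a χ := by
    rw [Finset.mul_sum]
    exact Finset.sum_congr rfl fun χ hχ => ha' χ (Finset.ne_of_mem_erase hχ)
  rw [h1] at hcol
  have h2 : ((one : IrrCharacter G) : G → ℂ) 1 * conj (((one : IrrCharacter G) : G → ℂ) g) = 1 := by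
    simp [hone]
  rw [h2] at hcol
  exact not_isIntegral_inv hr.one_lt (IsIntegral.sum _ fun χ _ => ha χ) hcol

universe u v

theorem charDegree_comp {G : Type u} {H : Type v} [Group G] [Group H] (e : G ≃* H) (χ : H → ℂ) :
    charDegree (χ ∘ e.toMonoidHom) = charDegree χ := by
  unfold charDegree
  rw [Function.comp_apply, map_one]

/-- a linear character of a nonabelian simple group is trivial -/
theorem charDegree_ne_one {S : Type u} [Group S] [Finite S] [IsSimpleGroup S] (hna : ¬ IsMulCommutative S)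
    {χ : IrrCharacter S} (h : (χ : S → ℂ) ≠ 1) : charDegree (χ : S → ℂ) ≠ 1 := by
  intro h1
  have h2 : (χ : S → ℂ) 1 = 1 := by
    rw [Cfsg.Agent.Blocks.Basic.irr_one_eq_charDegree χ.2, h1, Nat.cast_one]
  obtain ⟨f, hf⟩ := Cfsg.Agent.Characters.Linear.exists_hom_of_isIrrCharacter χ.2 h2
  rcases IsSimpleGroup.eq_bot_or_eq_top_of_normal f.ker inferInstance with hk | hk
  · apply hna
    have hinj := (MonoidHom.ker_eq_bot_iff f).1 hk
    exact ⟨⟨fun a b => hinj (by rw [map_mul, map_mul, mul_comm])⟩⟩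
  · apply h
    rw [hf]
    funext g
    have h3 : g ∈ f.ker := by rw [hk]; trivial
    rw [MonoidHom.mem_ker.1 h3]
    simp

end Cfsg.Agent.H913.LD
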