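import Cfsg.Agent.H913.LD.PrimeTo
import Cfsg.Agent.H713.Two.Ru
import Cfsg.Agent.H489.OutSpor

/-!
# The row of `Ru` for S4910 (helper913)

`783 = 27 · 29` is a degree; a nontrivial character of degree prime to 29 and to 3 is coprime to it.
-/

set_option autoImplicit false

namespace Cfsg.Agent.H913.LD

open Cfsg Cfsg.Agent.Characters.Core

universe u

theorem row_Ru {S : Type u} [Group S] [Finite S] [IsSimpleGroup S] (hna : ¬ IsMulCommutative S)
    (h : Spor.IsoRu S) : Cfsg.Agent.H954.LD.CopRow S := by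
  obtain ⟨e⟩ := h
  have hout : Nat.card (Out S) = 1 := by
    rw [H55.OutGen.card_out_congr e, S2077.result]
  have e' := e.trans Cfsg.Agent.RuLat.Main.equiv
  obtain ⟨χ₁, χ₂, hχ, -⟩ := H713.Two.Ru.exists_783
  have hcard : Nat.card S = 145926144000 := by
    rw [Nat.card_congr e'.toEquiv]
    exact Cfsg.Agent.SporadicB.RuOrder.card_H
  let α : IrrCharacter S := ⟨(χ₁ : _ → ℂ) ∘ e'.toMonoidHom, isIrr_comp e'.toMonoidHom e'.surjective χ₁.2⟩
  have hα : charDegree (α : S → ℂ) = 783 := by
    rw [← hχ]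
    exact charDegree_comp e' _
  have hf : (Nat.card S).factorization 29 = 1 := by
    rw [hcard, show (145926144000 : ℕ) = 29 ^ 1 * 5031936000 by norm_num]
    exact H713.Two.Ru.factorization_of (by norm_num) (by norm_num)
  obtain ⟨β, hβ, h29, h3⟩ := exists_prime_to (G := S) (p := 29) (r := 3) (by norm_num) (by norm_num) hf
  refine Cfsg.Agent.H954.LD.copRow_one hna hout (α := α) (β := β) (by rw [hα]; norm_num)
    (charDegree_ne_one hna hβ) ?_
  rw [hα, show (783 : ℕ) = 3 ^ 3 * 29 by norm_num]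
  refine Nat.Coprime.mul_left (Nat.Coprime.pow_left 3 ?_) ?_
  · exact (Nat.Prime.coprime_iff_not_dvd (by norm_num)).2 h3
  · exact (Nat.Prime.coprime_iff_not_dvd (by norm_num)).2 h29

end Cfsg.Agent.H913.LD
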